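import Groth.Agent.Clifford24.Nodal.Model
import Groth.Agent.NodeLib7.NodeFamily
import Groth.Agent.S19559

/-!
# Nodal families through étale charts
-/

set_option autoImplicit false
set_option backward.isDefEq.respectTransparency false
set_option linter.style.haveILetI false

universe u

open CategoryTheory CategoryTheory.Limits AlgebraicGeometry

namespace Groth.Agent.Clifford24.Nodal

/-- `x` has an étale neighbourhood étale over `uv = a`. -/
def HasChart {X S : Scheme.{u}} (f : X ⟶ S) (x : X) : Prop :=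
  ∃ (C : Type u) (_ : CommRing C) (a : C) (U : Scheme.{u}) (gU : U ⟶ X) (gV : Spec (CommRingCat.of C) ⟶ S)
    (g : U ⟶ Spec (CommRingCat.of (Node C a))),
    Etale gU ∧ Etale gV ∧ Etale g ∧ gU ≫ f = g ≫ nodeProj C a ≫ gV ∧ x ∈ Set.range gU.base

variable {X Y S T : Scheme.{u}}

theorem isOpen_hasChart (f : X ⟶ S) : IsOpen {x | HasChart f x} := by
  refine isOpen_iff_forall_mem_open.2 fun x hx => ?_
  obtain ⟨C, hC, a, U, gU, gV, g, h1, h2, h3, h4, h5⟩ := hx
  exact ⟨Set.range gU.base, fun y hy => ⟨C, hC, a, U, gU, gV, g, h1, h2, h3, h4, hy⟩,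
    gU.isOpenMap.isOpen_range, h5⟩

theorem HasChart.precomp {f : X ⟶ S} (e : Y ⟶ X) [Etale e] {y : Y} (h : HasChart f (e y)) :
    HasChart (e ≫ f) y := by
  obtain ⟨C, hC, a, U, gU, gV, g, h1, h2, h3, h4, u, hu⟩ := h
  obtain ⟨p, -, hp⟩ := Scheme.Pullback.exists_preimage_pullback (f := gU) (g := e) u y hu
  haveI : Etale (pullback.fst gU e) := MorphismProperty.pullback_fst _ _ ‹Etale e›
  refine ⟨C, hC, a, pullback gU e, pullback.snd gU e, gV, pullback.fst gU e ≫ g,
    MorphismProperty.pullback_snd _ _ h1, h2, inferInstance, ?_, p, hp⟩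
  rw [← pullback.condition_assoc, h4, Category.assoc]

theorem HasChart.image {f : X ⟶ S} (e : Y ⟶ X) [Etale e] {y : Y} (h : HasChart (e ≫ f) y) :
    HasChart f (e y) := by
  obtain ⟨C, hC, a, U, gU, gV, g, h1, h2, h3, h4, u, hu⟩ := h
  exact ⟨C, hC, a, U, gU ≫ e, gV, g, inferInstance, h2, h3, by rw [Category.assoc, h4], u, congrArg e hu⟩

theorem HasChart.postcomp {f : X ⟶ S} (e : S ⟶ T) [Etale e] {x : X} (h : HasChart f x) :
    HasChart (f ≫ e) x := by
  obtain ⟨C, hC, a, U, gU, gV, g, h1, h2, h3, h4, u, hu⟩ := h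
  exact ⟨C, hC, a, U, gU, gV ≫ e, g, h1, inferInstance, h3, by
    rw [← Category.assoc, h4]; simp only [Category.assoc], u, hu⟩

section BaseChange

variable {C C' : Type u} [CommRing C] [CommRing C'] (ρ : C →+* C') (a : C)

/-- The base change map of node algebras. -/
noncomputable def nodeBC : Node C a →+* Node C' (ρ a) :=
  Ideal.quotientMap _ (MvPolynomial.map ρ) (by
    rw [Ideal.span_le, Set.singleton_subset_iff]
    show MvPolynomial.map ρ (MvPolynomial.X 0 * MvPolynomial.X 1 - MvPolynomial.C a) ∈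
      Ideal.span {(MvPolynomial.X 0 * MvPolynomial.X 1 - MvPolynomial.C (ρ a) : MvPolynomial (Fin 2) C')}
    rw [map_sub, map_mul, MvPolynomial.map_X, MvPolynomial.map_X, MvPolynomial.map_C]
    exact Ideal.subset_span rfl)

theorem nodeBC_comp : (nodeBC ρ a).comp (nodeMap C a) = (nodeMap C' (ρ a)).comp ρ :=
  RingHom.ext fun c => by simp [nodeBC]

theorem isPushout_nodeBC :
    IsPushout (CommRingCat.ofHom ρ) (CommRingCat.ofHom (nodeMap C a))
      (CommRingCat.ofHom (nodeMap C' (ρ a))) (CommRingCat.ofHom (nodeBC ρ a)) := by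
  refine ⟨⟨CommRingCat.hom_ext (nodeBC_comp ρ a).symm⟩, ⟨?_⟩⟩
  refine PushoutCocone.isColimitAux' _ fun s => ?_
  have hcond : ∀ c, s.inl.hom (ρ c) = s.inr.hom (nodeMap C a c) := fun c =>
    ConcreteCategory.congr_hom s.condition c
  let ev : MvPolynomial (Fin 2) C' →+* s.pt := MvPolynomial.eval₂Hom s.inl.hom fun i => s.inr.hom (nu a i)
  have hev : ∀ x ∈ Ideal.span {(MvPolynomial.X 0 * MvPolynomial.X 1 - MvPolynomial.C (ρ a) :
      MvPolynomial (Fin 2) C')}, ev x = 0 := by
    intro x hx
    obtain ⟨r, rfl⟩ := Ideal.mem_span_singleton'.1 hx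
    simp only [ev, map_mul, map_sub, MvPolynomial.eval₂Hom_X', MvPolynomial.eval₂Hom_C]
    rw [← map_mul, nu_mul, hcond, sub_self, mul_zero]
  refine ⟨CommRingCat.ofHom (Ideal.Quotient.lift _ ev hev), ?_, ?_, ?_⟩
  · refine CommRingCat.hom_ext (RingHom.ext fun c => ?_)
    show Ideal.Quotient.lift _ ev hev (Ideal.Quotient.mk _ (MvPolynomial.C c)) = s.inl.hom c
    rw [Ideal.Quotient.lift_mk, MvPolynomial.eval₂Hom_C]
  · refine CommRingCat.hom_ext (Ideal.Quotient.ringHom_ext (MvPolynomial.ringHom_ext (fun c => ?_) fun i => ?_))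
    · show Ideal.Quotient.lift _ ev hev (nodeBC ρ a (Ideal.Quotient.mk _ (MvPolynomial.C c))) = _
      simp [nodeBC, ev, hcond]
    · show Ideal.Quotient.lift _ ev hev (nodeBC ρ a (Ideal.Quotient.mk _ (MvPolynomial.X i))) = _
      simp [nodeBC, ev]
  · intro m h1 h2
    refine CommRingCat.hom_ext (Ideal.Quotient.ringHom_ext (MvPolynomial.ringHom_ext (fun c => ?_) fun i => ?_))
    · show m.hom (Ideal.Quotient.mk _ (MvPolynomial.C c)) = Ideal.Quotient.lift _ ev hev (Ideal.Quotient.mk _ _)
      rw [Ideal.Quotient.lift_mk, MvPolynomial.eval₂Hom_C, ← ConcreteCategory.congr_hom h1 c]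
      rfl
    · show m.hom (Ideal.Quotient.mk _ (MvPolynomial.X i)) = Ideal.Quotient.lift _ ev hev (Ideal.Quotient.mk _ _)
      rw [Ideal.Quotient.lift_mk, MvPolynomial.eval₂Hom_X', ← ConcreteCategory.congr_hom h2 (nu a i)]
      show _ = m.hom (nodeBC ρ a (nu a i))
      simp [nodeBC]

end BaseChange

theorem HasChart.baseChange {f : X ⟶ S} {S' : Scheme.{u}} (g : S' ⟶ S) (x' : ↥(pullback f g))
    (h : HasChart f (pullback.fst f g x')) : HasChart (pullback.snd f g) x' := by
  obtain ⟨C, hC, a, U, gU, gV, gW, h1, h2, h3, h4, u, hu⟩ := h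
  haveI := h1; haveI := h2; haveI := h3
  let U₂ := pullback gU (pullback.fst f g)
  haveI : Etale (pullback.snd gU (pullback.fst f g)) := MorphismProperty.pullback_snd _ _ h1
  haveI : Etale (pullback.snd gV g) := MorphismProperty.pullback_snd _ _ h2
  let P : U₂ ⟶ pullback gV g := pullback.lift (pullback.fst _ _ ≫ gW ≫ nodeProj C a)
    (pullback.snd _ _ ≫ pullback.snd f g) (by
      simp only [Category.assoc, ← h4, ← pullback.condition, pullback.condition_assoc])
  have bot : IsPullback (pullback.fst gU (pullback.fst f g)) P (gW ≫ nodeProj C a) (pullback.fst gV g) := by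
    have big : IsPullback (pullback.fst gU (pullback.fst f g))
        (P ≫ pullback.snd gV g) ((gW ≫ nodeProj C a) ≫ gV) g := by
      rw [show P ≫ pullback.snd gV g = pullback.snd gU (pullback.fst f g) ≫ pullback.snd f g from
        pullback.lift_snd _ _ _, Category.assoc, ← h4]
      exact (IsPullback.of_hasPullback gU (pullback.fst f g)).paste_vert (IsPullback.of_hasPullback f g)
    exact IsPullback.of_bot big (pullback.lift_fst _ _ _).symm (IsPullback.of_hasPullback gV g)
  obtain ⟨p, -, hp⟩ := Scheme.Pullback.exists_preimage_pullback (f := gU) (g := pullback.fst f g) u x' hu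
  obtain ⟨O, hO, hvO, -⟩ := exists_isAffineOpen_mem_and_subset (X := pullback gV g) (x := P p) (U := ⊤) trivial
  let C' := Γ(pullback gV g, O)
  let j : Spec (CommRingCat.of C') ⟶ pullback gV g := hO.fromSpec
  let ρ : C →+* C' := (Spec.preimage (j ≫ pullback.fst gV g)).hom
  have hρ : Spec.map (CommRingCat.ofHom ρ) = j ≫ pullback.fst gV g := Spec.map_preimage _
  let b := Spec.map (CommRingCat.ofHom (nodeBC ρ a))
  have sqW : IsPullback b (nodeProj C' (ρ a)) (nodeProj C a) (Spec.map (CommRingCat.ofHom ρ)) :=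
    (isPullback_SpecMap_of_isPushout _ _ _ _ (isPushout_nodeBC ρ a)).flip
  -- the part of `U₂` over `O`
  let U₁ := pullback P j
  have sq1 : IsPullback (pullback.fst P j ≫ pullback.fst gU (pullback.fst f g)) (pullback.snd P j)
      (gW ≫ nodeProj C a) (Spec.map (CommRingCat.ofHom ρ)) := by
    rw [hρ]
    exact (IsPullback.of_hasPullback P j).paste_horiz bot
  let g₁ : U₁ ⟶ Spec (CommRingCat.of (Node C' (ρ a))) :=
    sqW.lift (pullback.fst P j ≫ pullback.fst gU (pullback.fst f g) ≫ gW) (pullback.snd P j)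
      (by simpa only [Category.assoc] using sq1.w)
  have sqg : IsPullback (pullback.fst P j ≫ pullback.fst gU (pullback.fst f g)) g₁ gW b := by
    refine IsPullback.of_bot ?_ ?_ sqW
    · rw [sqW.lift_snd]; exact sq1
    · rw [sqW.lift_fst, Category.assoc]
  haveI : Etale g₁ := MorphismProperty.of_isPullback sqg h3
  haveI : Etale (pullback.fst P j) := MorphismProperty.pullback_fst _ _ (inferInstance : Etale j)
  refine ⟨C', inferInstance, ρ a, U₁, pullback.fst P j ≫ pullback.snd gU (pullback.fst f g),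
    j ≫ pullback.snd gV g, g₁, inferInstance, inferInstance, inferInstance, ?_, ?_⟩
  · rw [← Category.assoc g₁, sqW.lift_snd, ← pullback.condition_assoc, Category.assoc]
    congr 1
    exact (pullback.lift_snd _ _ _).symm
  · obtain ⟨q, hq⟩ : P p ∈ Set.range j := by
      show P p ∈ Set.range hO.fromSpec
      rw [hO.range_fromSpec]; exact hvO
    obtain ⟨p₁, hp₁, -⟩ := Scheme.Pullback.exists_preimage_pullback (f := P) (g := j) p q hq.symm
    exact ⟨p₁, (congrArg (pullback.snd gU (pullback.fst f g)) hp₁).trans hp⟩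

end Groth.Agent.Clifford24.Nodal
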