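import Groth.Agent.Clifford24.Nodal.Chart
import Groth.Agent.NodeLib7.BigField

/-!
# A pointwise criterion for nodal families, and descent along base change
-/

set_option autoImplicit false
set_option backward.isDefEq.respectTransparency false
set_option linter.style.haveILetI false

universe u

open CategoryTheory CategoryTheory.Limits AlgebraicGeometry

namespace Groth.Agent.Clifford24.Nodal

variable {X Y S T : Scheme.{u}} (f : X ⟶ S) [Flat f] [LocallyOfFinitePresentation f]

theorem smooth_or_node {x : X} (h : HasChart f x) :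
    (∃ V : X.Opens, x ∈ V ∧ Smooth (V.ι ≫ f)) ∨ NodeLib7.IsNodeHom (f.stalkMap x).hom := by
  obtain ⟨C, hC, a, U, gU, gV, g, h1, h2, h3, h4, u, rfl⟩ := h
  haveI := h1; haveI := h2; haveI := h3
  exact NodeLib7.forall_mem_of_chart f (C := CommRingCat.of C) (W := CommRingCat.of (Node C a)) a
    (Ideal.Quotient.mk _) Ideal.Quotient.mk_surjective Ideal.mk_ker _ rfl gU gV g h4 u

theorem rdeg_eq_zero_of_node {x : X} (h : NodeLib7.IsNodeHom (f.stalkMap x).hom) : rdeg f x = 0 := by
  obtain ⟨⟨hfin, -⟩, -⟩ := h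
  letI := (f.residueFieldMap x).hom.toAlgebra
  haveI : Module.Finite (S.residueField (f x)) (X.residueField x) := hfin
  haveI : Algebra.IsAlgebraic (S.residueField (f x)) (X.residueField x) := Algebra.IsAlgebraic.of_finite _ _
  unfold rdeg DimLib.trdegHom
  show (Algebra.trdeg (S.residueField (f x)) (X.residueField x)).toNat = 0
  rw [trdeg_eq_zero]; exact map_zero _

omit [Flat f] [LocallyOfFinitePresentation f] in
theorem rdeg_eq_one_of_chart [LocallyOfFiniteType f] {η : X} (hc : HasChart f η) (hη : FlatMor12.IsFibreMax f η) :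
    rdeg f η = 1 := by
  obtain ⟨C, hC, a, U, gU, gV, g, h1, h2, h3, h4, u, rfl⟩ := hc
  haveI := h1; haveI := h2; haveI := h3
  let q := nodeProj C a
  have hfl : ∀ y, rdeg g y = 0 := rdeg_eq_zero_of_etale g
  haveI : LocallyOfFiniteType q := NodeLib7.locallyOfFiniteType_node (C := CommRingCat.of C)
    (W := CommRingCat.of (Node C a)) (Ideal.Quotient.mk _) Ideal.Quotient.mk_surjective _ rfl
  have hu : FlatMor12.IsFibreMax (gU ≫ f) u := fun w hw hfw => by
    have hgw := hη (gU w) (hw.map gU.continuous) hfw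
    exact eq_of_rdeg_eq_zero gU (rdeg_eq_zero_of_etale gU w) hw hgw
  have hq : FlatMor12.IsFibreMax q (g u) := fun w hw hqw => by
    obtain ⟨w', hw', rfl⟩ := Flat.generalizingMap (f := g) hw
    have e : (gU ≫ f) w' = (gU ≫ f) u := by
      rw [h4]
      exact congrArg gV hqw
    rw [hu w' hw' e]
  have := (rdeg_node a hq : rdeg q (g u) = 1)
  have e1 : rdeg (gU ≫ f) u = rdeg (g ≫ q ≫ gV) u := rdeg_congr h4 u
  rw [rdeg_comp gU f, rdeg_comp g (q ≫ gV), rdeg_comp q gV, rdeg_eq_zero_of_etale gU, rdeg_eq_zero_of_etale g,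
    rdeg_eq_zero_of_etale gV] at e1
  simp only [add_zero, zero_add] at e1
  exact e1.trans this

/-- A family is nodal iff it is flat, locally of finite presentation, and has charts everywhere. -/
theorem isNodalFamily_iff {X S : Scheme.{u}} (f : X ⟶ S) :
    Curv2.IsNodalFamily f ↔ Flat f ∧ LocallyOfFinitePresentation f ∧ ∀ x, HasChart f x := by
  refine ⟨fun h => ?_, fun ⟨h1, h2, h3⟩ => ⟨h1, h2, fun s => ⟨?_, fun w _ => ?_⟩⟩⟩
  · haveI := h.1; haveI := h.2.1
    exact ⟨h.1, h.2.1, NodeLib7.exists_model_of_nodalFamily f h⟩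
  · haveI := h1; haveI := h2
    exact (fiber_equidim_iff f s).2 fun x _ hx => rdeg_eq_one_of_chart f (h3 x) hx
  · haveI := h1; haveI := h2
    rcases smooth_or_node f (h3 (f.fiberι s w)) with hs | hn
    · exact Or.inl (SmoothLib.smooth_nhd_baseChange f (S.fromSpecResidueField s) (IsPullback.of_hasPullback _ _) w hs)
    · exact Or.inr ((NodeLib7.isNodePt_iff_isNodeHom f s w).2 hn)

theorem hasChart_of_node {x : X} (h : NodeLib7.IsNodeHom (f.stalkMap x).hom) : HasChart f x := by
  obtain ⟨C, hC, a, U, gU, gV, g, h1, h2, h3, h4, h5⟩ :=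
    NodeLib7.exists_model_at f (f x) (f.asFiber x) (by
      letI : (f.fiber (f x)).Over (Spec (CommRingCat.of (S.residueField (f x)))) := ⟨f.fiberToSpecResidueField (f x)⟩
      haveI : LocallyOfFiniteType (f.fiber (f x) ↘ Spec (CommRingCat.of (S.residueField (f x)))) :=
        (MorphismProperty.pullback_snd _ _ inferInstance : LocallyOfFiniteType (f.fiberToSpecResidueField (f x)))
      exact ((NodeLib7.isNode_iff (S.residueField (f x)) (f.fiber (f x)) (f.asFiber x)).1
        ((NodeLib7.isNode_asFiber_iff f x).2 h)).2)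
  rw [f.fiberι_asFiber] at h5
  exact ⟨C, hC, a, U, gU, gV, g, h1, h2, h3, h4, h5⟩

omit [LocallyOfFinitePresentation f] [Flat f] in
/-- Smooth near a point specialising from a generic point of a fibre of transcendence degree one. -/
theorem hasChart_of_smooth [Flat f] [LocallyOfFinitePresentation f] {x : X}
    (hs : ∃ V : X.Opens, x ∈ V ∧ Smooth (V.ι ≫ f))
    (key : ∀ (V : X.Opens) (n : ℕ), x ∈ V → SmoothOfRelativeDimension n (V.ι ≫ f) → n = 1) : HasChart f x := by
  obtain ⟨V₀, hx, hV₀⟩ := hs
  obtain ⟨V, n, hxV, hn⟩ := Unram17Lib.exists_smoothOfRelativeDimension (V₀.ι ≫ f) ⟨x, hx⟩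
  let V₁ : X.Opens := V₀.ι ''ᵁ V
  have hxV₁ : x ∈ V₁ := ⟨⟨x, hx⟩, hxV, rfl⟩
  haveI hn' : SmoothOfRelativeDimension n (V₁.ι ≫ f) := by
    haveI := hn
    have e : V₁.ι ≫ f = (V₀.ι.isoImage V).inv ≫ V.ι ≫ V₀.ι ≫ f := by
      rw [← Category.assoc V.ι, ← Scheme.Hom.isoImage_hom_ι V₀.ι V, Category.assoc, Iso.inv_hom_id_assoc]
    rw [e]
    simpa using (inferInstance : SmoothOfRelativeDimension (0 + n) ((V₀.ι.isoImage V).inv ≫ V.ι ≫ V₀.ι ≫ f))
  obtain rfl := key V₁ n hxV₁ hn'
  exact NodeLib7.exists_model_smooth f x V₁ hxV₁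

/-- Nodes are invariant under isomorphisms over the field. -/
theorem isNode_iso (K : Type u) [Field K] {A B : Scheme.{u}} (pA : A ⟶ Spec (CommRingCat.of K))
    (pB : B ⟶ Spec (CommRingCat.of K)) [LocallyOfFiniteType pA] (Φ : A ≅ B) (hΦ : Φ.hom ≫ pB = pA) (w : A)
    (h : @Curv2.IsNode K _ A ⟨pA⟩ w) : @Curv2.IsNode K _ B ⟨pB⟩ (Φ.hom w) := by
  letI : A.Over (Spec (CommRingCat.of K)) := ⟨pA⟩
  letI : B.Over (Spec (CommRingCat.of K)) := ⟨pB⟩
  haveI : LocallyOfFiniteType (A ↘ Spec (CommRingCat.of K)) := ‹_›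
  haveI : LocallyOfFiniteType (B ↘ Spec (CommRingCat.of K)) := by
    show LocallyOfFiniteType pB
    rw [← Iso.inv_hom_id_assoc Φ pB, hΦ]; infer_instance
  letI := Curv2.stalkAlgebra K A w
  letI := Curv2.stalkAlgebra K B (Φ.hom w)
  obtain ⟨hc, hsep, u, v, a, b, c, hd⟩ := (NodeLib7.isNode_iff K A w).1 h
  let e : (B.presheaf.stalk (Φ.hom w)) ≃+* (A.presheaf.stalk w) :=
    (asIso (Φ.hom.stalkMap w)).commRingCatIsoToRingEquiv
  haveI : IsLocalHom e.symm.toRingHom := IsLocalHom.of_surjective _ e.symm.surjective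
  have he : ∀ t : K, e (algebraMap K (B.presheaf.stalk (Φ.hom w)) t) = algebraMap K (A.presheaf.stalk w) t := fun t => by
    have h1 := VarietyLib.specMap_stalkAlgebra K B (Φ.hom w)
    have h2 := VarietyLib.specMap_stalkAlgebra K A w
    have h3 : CommRingCat.ofHom (algebraMap K (B.presheaf.stalk (Φ.hom w))) ≫ Φ.hom.stalkMap w =
        CommRingCat.ofHom (algebraMap K (A.presheaf.stalk w)) := by
      apply Spec.map_injective
      rw [Spec.map_comp, h1, h2, Scheme.SpecMap_stalkMap_fromSpecStalk_assoc]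
      exact congrArg (A.fromSpecStalk w ≫ ·) hΦ
    exact ConcreteCategory.congr_hom h3 t
  refine (NodeLib7.isNode_iff K B (Φ.hom w)).2 ⟨?_, ?_, _, _, _, _, _, hd.of_ringEquiv e.symm⟩
  · rw [← Set.image_singleton]
    exact Φ.hom.homeomorph.isClosedMap _ hc
  · let ε : IsLocalRing.ResidueField (A.presheaf.stalk w) ≃ₐ[K] IsLocalRing.ResidueField (B.presheaf.stalk (Φ.hom w)) :=
      { IsLocalRing.ResidueField.mapEquiv e.symm with
        commutes' := fun t => by
          show IsLocalRing.ResidueField.map e.symm.toRingHom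
            (IsLocalRing.residue _ (algebraMap K (A.presheaf.stalk w) t)) = _
          rw [IsLocalRing.ResidueField.map_residue]
          exact congrArg (IsLocalRing.residue _) (e.symm_apply_eq.2 (he t).symm) }
    haveI := hsep
    exact AlgEquiv.Algebra.isSeparable ε

/-- A point of a curve under a node of a base change, closed by hypothesis, is a node. -/
theorem isNode_of_bc {k : Type u} [Field k] (Z : Scheme.{u}) [Z.Over (Spec (CommRingCat.of k))]
    [LocallyOfFiniteType (Z ↘ (Spec (CommRingCat.of k)))] (K : Type u) [Field K] [Algebra k K]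
    (y : Curv2.bc k Z K) (hc : IsClosed ({Curv2.bcFst k Z K y} : Set Z))
    (hy : @Curv2.IsNode K _ (Curv2.bc k Z K) ⟨Curv2.bcSnd k Z K⟩ y) :
    Curv2.IsNode k Z (Curv2.bcFst k Z K y) := by
  letI iO : (Curv2.bc k Z K).Over (Spec (CommRingCat.of K)) := ⟨Curv2.bcSnd k Z K⟩
  haveI : LocallyOfFiniteType (Curv2.bc k Z K ↘ Spec (CommRingCat.of K)) :=
    inferInstanceAs (LocallyOfFiniteType (Curv2.bcSnd k Z K))
  obtain ⟨-, w, rfl, hw⟩ := hy
  obtain ⟨z, hz, hord⟩ := NodeLib7.exists_point_bc k Z (Ω := AlgebraicClosure K) w hw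
  rw [← hz] at hc ⊢
  letI := Curv2.stalkAlgebra k Z ((Curv2.bcFst k Z (AlgebraicClosure K)) z)
  obtain ⟨e₀, -⟩ := hord
  obtain ⟨P, _, hP, _, e, -⟩ := NodeLib7.exists_localization_compat k Z (AlgebraicClosure K) z
  haveI := (NodeLib7.isClosed_iff_finite k Z _).1 hc
  haveI := NodeLib7.isNoetherianRing_stalk k Z ((Curv2.bcFst k Z (AlgebraicClosure K)) z)
  haveI : IsNoetherianRing ((Curv2.bc k Z (AlgebraicClosure K)).presheaf.stalk z) :=
    isNoetherianRing_of_ringEquiv _ e.symm
  obtain ⟨E, -⟩ := NodeLib7.exists_completion_congr e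
  obtain ⟨h1, -, h3⟩ := NodeLib7.exists_nodeData_of_big P hP (E.symm.trans e₀)
  exact (NodeLib7.isNode_iff k Z _).2 ⟨hc, h1, h3⟩

theorem node_of_baseChange {S' : Scheme.{u}} (g : S' ⟶ S) (x' : ↥(pullback f g))
    (h : NodeLib7.IsNodeHom ((pullback.snd f g).stalkMap x').hom) (hc : rdeg f (pullback.fst f g x') = 0) :
    NodeLib7.IsNodeHom (f.stalkMap (pullback.fst f g x')).hom := by
  let f' := pullback.snd f g
  let v := f' x'
  let y := g v
  have hb : Spec.map (g.residueFieldMap v) ≫ S.fromSpecResidueField y = S'.fromSpecResidueField v ≫ g :=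
    g.SpecMap_residueFieldMap_fromSpecResidueField v
  have sq : IsPullback (f'.fiberι v ≫ pullback.fst f g) (f'.fiberToSpecResidueField v) f
      (S'.fromSpecResidueField v ≫ g) :=
    (IsPullback.of_hasPullback f' (S'.fromSpecResidueField v)).paste_horiz (IsPullback.of_hasPullback f g)
  have hl : (f'.fiberι v ≫ pullback.fst f g) ≫ f =
      (f'.fiberToSpecResidueField v ≫ Spec.map (g.residueFieldMap v)) ≫ S.fromSpecResidueField y := by
    rw [sq.w, Category.assoc, hb]
  let l : f'.fiber v ⟶ f.fiber y := pullback.lift _ _ hl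
  letI alg : Algebra (S.residueField y) (S'.residueField v) := (g.residueFieldMap v).hom.toAlgebra
  let Z := f.fiber y
  letI iZ : Z.Over (Spec (CommRingCat.of (S.residueField y))) := ⟨f.fiberToSpecResidueField y⟩
  have sq' : IsPullback l (f'.fiberToSpecResidueField v) (Z ↘ Spec (CommRingCat.of (S.residueField y)))
      (Spec.map (CommRingCat.ofHom (algebraMap (S.residueField y) (S'.residueField v)))) := by
    show IsPullback l (f'.fiberToSpecResidueField v) (f.fiberToSpecResidueField y) (Spec.map (g.residueFieldMap v))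
    refine IsPullback.of_right ?_ (pullback.lift_snd _ _ _) (IsPullback.of_hasPullback f (S.fromSpecResidueField y))
    rw [hb, pullback.lift_fst]
    exact sq
  haveI hlft : LocallyOfFiniteType (f.fiberToSpecResidueField y) := MorphismProperty.pullback_snd _ _ inferInstance
  haveI : LocallyOfFiniteType (Z ↘ Spec (CommRingCat.of (S.residueField y))) := hlft
  haveI : LocallyOfFiniteType (f'.fiberToSpecResidueField v) := MorphismProperty.pullback_snd _ _ inferInstance
  let Φ := sq'.isoPullback
  let w' := f'.asFiber x'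
  let y' : Curv2.bc (S.residueField y) Z (S'.residueField v) := Φ.hom w'
  -- the node upstairs
  have hy : @Curv2.IsNode (S'.residueField v) _ (Curv2.bc (S.residueField y) Z (S'.residueField v))
      ⟨Curv2.bcSnd (S.residueField y) Z (S'.residueField v)⟩ y' := by
    exact isNode_iso (S'.residueField v) (f'.fiberToSpecResidueField v)
      (Curv2.bcSnd (S.residueField y) Z (S'.residueField v)) Φ sq'.isoPullback_hom_snd w'
      ((NodeLib7.isNode_asFiber_iff f' x').2 h)
  have e1 : f.fiberι y (l w') = pullback.fst f g x' :=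
    (congrArg (fun m : f'.fiber v ⟶ X => m w') (pullback.lift_fst _ _ hl)).trans
      (congrArg (pullback.fst f g) (f'.fiberι_asFiber x'))
  have e2 : Curv2.bcFst (S.residueField y) Z (S'.residueField v) y' = l w' :=
    congrArg (fun m : f'.fiber v ⟶ Z => m w') sq'.isoPullback_hom_fst
  have hclosed : IsClosed ({l w'} : Set Z) := (DimLib.ptDim_eq_zero_iff (k := S.residueField y)
    (f.fiberToSpecResidueField y) (l w')).1 (by rw [EGA43.FibDepth.ptDim_fiber, e1]; exact hc)
  have hnode := isNode_of_bc Z (S'.residueField v) y' (by rw [e2]; exact hclosed) hy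
  rw [e2] at hnode
  have := (NodeLib7.isNodePt_iff_isNodeHom f y (l w')).1 hnode
  have key : ∀ z : X, z = pullback.fst f g x' → NodeLib7.IsNodeHom (f.stalkMap z).hom →
      NodeLib7.IsNodeHom (f.stalkMap (pullback.fst f g x')).hom := fun z hz hzn => hz ▸ hzn
  exact key _ e1 this

/-- **Descent of charts along a base change.** -/
theorem hasChart_of_baseChange {S' : Scheme.{u}} (g : S' ⟶ S) (x' : ↥(pullback f g))
    (h : HasChart (pullback.snd f g) x') : HasChart f (pullback.fst f g x') := by
  let f' := pullback.snd f g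
  haveI : LocallyOfFinitePresentation f' := inferInstance
  haveI : Flat f' := inferInstance
  obtain ⟨η', hη', hη'f, hmax⟩ := exists_fibreMax f' x'
  have hη'C : HasChart f' η' := hη'.mem_open (isOpen_hasChart f') h
  have hdeg' : rdeg f' η' = 1 := rdeg_eq_one_of_chart f' hη'C hmax
  have hdescend : ∀ z : ↥(pullback f g), (∃ V : (pullback f g).Opens, z ∈ V ∧ Smooth (V.ι ≫ f')) →
      ∃ V : X.Opens, pullback.fst f g z ∈ V ∧ Smooth (V.ι ≫ f) := fun z hz =>
    (SmoothLib.smooth_nhd_iff f _).2 (SmoothLib.formallySmooth_stalkMap_of_baseChange f g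
      (IsPullback.of_hasPullback f g) z (Flat.stalkMap f _) ((SmoothLib.smooth_nhd_iff f' z).1 hz))
  have hsp : pullback.fst f g η' ⤳ pullback.fst f g x' := hη'.map (pullback.fst f g).continuous
  have key : ∀ (V : X.Opens) (n : ℕ), pullback.fst f g x' ∈ V → SmoothOfRelativeDimension n (V.ι ≫ f) → n = 1 := by
    intro V n hxV hn
    let V' := pullback.fst f g ⁻¹ᵁ V
    haveI := smoothOfRelativeDimension_isStableUnderBaseChange.{u} n
    haveI : SmoothOfRelativeDimension n (V'.ι ≫ f') := MorphismProperty.of_isPullback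
      ((isPullback_morphismRestrict (pullback.fst f g) V).paste_vert (IsPullback.of_hasPullback f g)) hn
    exact (rdeg_of_smoothOfRelativeDimension f' n V' (hsp.mem_open V.isOpen hxV) hmax).symm.trans hdeg'
  by_cases hx : ∃ V : X.Opens, pullback.fst f g x' ∈ V ∧ Smooth (V.ι ≫ f)
  · exact hasChart_of_smooth f hx key
  rcases smooth_or_node f' h with hs | hn
  · exact absurd (hdescend x' hs) hx
  · -- the generic point above is smooth, so `fst x'` is closed in its fibre
    have hs1 : ∃ V : (pullback f g).Opens, η' ∈ V ∧ Smooth (V.ι ≫ f') :=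
      (smooth_or_node f' hη'C).resolve_right fun h0 => by
        have := rdeg_eq_zero_of_node f' h0; omega
    have hne : pullback.fst f g η' ≠ pullback.fst f g x' := fun e => hx (e ▸ hdescend η' hs1)
    have hd : rdeg f (pullback.fst f g η') = 1 :=
      (CycLib28.trdegHom_fibreMax_bc f g η' hmax _ rfl).symm.trans hdeg'
    have hf : f (pullback.fst f g x') = f (pullback.fst f g η') := by
      have hc := fun z => congrArg (fun m : pullback f g ⟶ S => m z) (pullback.condition (f := f) (g := g))
      exact (hc x').trans ((congrArg g hη'f.symm).trans (hc η').symm)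
    have := rdeg_lt_of_specializes f hsp hne hf
    exact hasChart_of_node f (node_of_baseChange f g x' hn (by omega))

end Groth.Agent.Clifford24.Nodal
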