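import Groth.Agent.CycLib28.GenBaseChange
import Groth.Agent.DimLib.Maximal
import Groth.Agent.Unram17Lib.RelDim
import Groth.Agent.NodeLib7.NodeOpen

/-!
# Transcendence degree of residue extensions at the generic points of fibres
-/

set_option autoImplicit false
set_option backward.isDefEq.respectTransparency false
set_option linter.style.haveILetI false

universe u

open CategoryTheory CategoryTheory.Limits AlgebraicGeometry IsLocalRing

namespace Groth.Agent.Clifford24.Nodal

variable {X Y S T : Scheme.{u}}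

/-- Transcendence degree of `κ(x)` over `κ(f x)`. -/
noncomputable def rdeg (f : X ⟶ S) (x : X) : ℕ := DimLib.trdegHom (f.residueFieldMap x).hom

theorem rdeg_congr {f g : X ⟶ S} (h : f = g) (x : X) : rdeg f x = rdeg g x := by subst h; rfl

/-- Each component of each fibre is a curve. -/
theorem fiber_equidim_iff (f : X ⟶ S) [LocallyOfFiniteType f] (s : S) :
    (∀ Z ∈ irreducibleComponents (f.fiber s : Type u), topologicalKrullDim Z = 1) ↔
      ∀ x, f x = s → FlatMor12.IsFibreMax f x → rdeg f x = 1 := by
  haveI : LocallyOfFiniteType (f.fiberToSpecResidueField s) :=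
    inferInstanceAs (LocallyOfFiniteType (pullback.snd f (S.fromSpecResidueField s)))
  rw [DimLib.forall_components_iff (k := S.residueField s) (f.fiberToSpecResidueField s) (fun e => e = 1)]
  constructor
  · intro h x hx hmax
    subst hx
    have h1 := h (f.asFiber x) (FlatMor12.fibreMax_asFiber f hmax)
    rw [EGA43.FibDepth.ptDim_fiber, f.fiberι_asFiber] at h1
    exact Nat.cast_eq_one.1 h1
  · intro h z hz
    rw [EGA43.FibDepth.ptDim_fiber]
    exact Nat.cast_eq_one.2 (h _ ((f.range_fiberι s).le ⟨z, rfl⟩) (FlatMor12.fiberι_fibreMax f s hz))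

theorem trdeg_residueFieldMap_lt (f : X ⟶ S) [LocallyOfFiniteType f] (x : X) :
    @Algebra.trdeg (S.residueField (f x)) (X.residueField x) _ _ (f.residueFieldMap x).hom.toAlgebra <
      Cardinal.aleph0 := by
  haveI : LocallyOfFiniteType (f.fiberToSpecResidueField (f x)) :=
    inferInstanceAs (LocallyOfFiniteType (pullback.snd f (S.fromSpecResidueField (f x))))
  have h := DimLib.trdeg_baseRingHom_lt (k := S.residueField (f x)) (f.fiberToSpecResidueField (f x)) (f.asFiber x)
  have e : CommRingCat.ofHom (DimLib.baseRingHom (k := S.residueField (f x))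
        (f.fiberToSpecResidueField (f x)) (f.asFiber x)) =
      (S.residueFieldCongr (congrArg f (f.fiberι_asFiber x)).symm).hom ≫
        f.residueFieldMap (f.fiberι (f x) (f.asFiber x)) ≫ (f.fiberι (f x)).residueFieldMap (f.asFiber x) := by
    apply Spec.map_injective
    rw [DimLib.specMap_baseRingHom, ← cancel_mono (S.fromSpecResidueField (f x)), Spec.map_comp, Spec.map_comp,
      Category.assoc, Category.assoc, Category.assoc, Scheme.residueFieldCongr_fromSpecResidueField,
      Scheme.Hom.SpecMap_residueFieldMap_fromSpecResidueField,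
      Scheme.Hom.SpecMap_residueFieldMap_fromSpecResidueField_assoc]
    exact congrArg ((f.fiber (f x)).fromSpecResidueField (f.asFiber x) ≫ ·) pullback.condition.symm
  haveI := DimLib.isIso_residueFieldMap_of_isPreimmersion (f.fiberι (f x)) (f.asFiber x)
  let e1 := (S.residueFieldCongr (congrArg f (f.fiberι_asFiber x)).symm).commRingCatIsoToRingEquiv
  let e2 := (asIso ((f.fiberι (f x)).residueFieldMap (f.asFiber x))).commRingCatIsoToRingEquiv
  have e' : DimLib.baseRingHom (k := S.residueField (f x)) (f.fiberToSpecResidueField (f x)) (f.asFiber x) =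
      (e2 : _ →+* _).comp ((f.residueFieldMap (f.fiberι (f x) (f.asFiber x))).hom.comp (e1 : _ →+* _)) :=
    congrArg CommRingCat.Hom.hom e
  rw [e', DimLib.trdeg_comp_ringEquiv] at h
  obtain ⟨-, h2⟩ := DimLib.trdeg_lt_of_comp _ _ h
  have key : ∀ (y : X), y = x → @Algebra.trdeg (S.residueField (f y)) (X.residueField y) _ _
      (f.residueFieldMap y).hom.toAlgebra < Cardinal.aleph0 → @Algebra.trdeg (S.residueField (f x)) (X.residueField x) _ _
      (f.residueFieldMap x).hom.toAlgebra < Cardinal.aleph0 := fun y hy h3 => hy ▸ h3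
  exact key _ (f.fiberι_asFiber x) (by exact h2)

theorem rdeg_comp (g : Y ⟶ X) (f : X ⟶ S) [LocallyOfFiniteType g] [LocallyOfFiniteType f] (y : Y) :
    rdeg (g ≫ f) y = rdeg f (g y) + rdeg g y := by
  have e : ((g ≫ f).residueFieldMap y).hom = (g.residueFieldMap y).hom.comp (f.residueFieldMap (g y)).hom :=
    congrArg CommRingCat.Hom.hom (Scheme.residueFieldMap_comp g f y)
  unfold rdeg
  rw [← DimLib.trdegHom_comp _ _ (trdeg_residueFieldMap_lt f (g y)) (trdeg_residueFieldMap_lt g y), ← e]

theorem rdeg_eq_zero_of_etale (g : Y ⟶ X) [Etale g] (y : Y) : rdeg g y = 0 := by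
  obtain ⟨-, -, hfin, -⟩ := NodeLib7.etale_stalk_facts g y
  letI := (g.residueFieldMap y).hom.toAlgebra
  haveI : Module.Finite (X.residueField (g y)) (Y.residueField y) := hfin
  haveI : Algebra.IsAlgebraic (X.residueField (g y)) (Y.residueField y) := Algebra.IsAlgebraic.of_finite _ _
  unfold rdeg DimLib.trdegHom
  show (Algebra.trdeg (X.residueField (g y)) (Y.residueField y)).toNat = 0
  rw [trdeg_eq_zero]; exact map_zero _

/-- A point closed in its fibre and a specialisation inside the fibre. -/
theorem eq_of_rdeg_eq_zero (f : X ⟶ S) [LocallyOfFiniteType f] {x y : X} (h : rdeg f x = 0) (hy : x ⤳ y)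
    (hf : f y = f x) : y = x := by
  haveI : LocallyOfFiniteType (f.fiberToSpecResidueField (f x)) :=
    inferInstanceAs (LocallyOfFiniteType (pullback.snd f (S.fromSpecResidueField (f x))))
  obtain ⟨z, hz⟩ : y ∈ Set.range (f.fiberι (f x)) := by rw [f.range_fiberι]; exact hf
  have h1 : f.asFiber x ⤳ z := (f.fiberι (f x)).isEmbedding.isInducing.specializes_iff.1 (by
    rw [f.fiberι_asFiber, hz]; exact hy)
  have h2 : f.asFiber x = z := DimLib.eq_of_specializes_of_ptDim_le (k := S.residueField (f x))
    (f.fiberToSpecResidueField (f x)) h1 (by rw [EGA43.FibDepth.ptDim_fiber, f.fiberι_asFiber]; exact h.trans_le (Nat.zero_le _))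
  rw [← hz, ← h2, f.fiberι_asFiber]

theorem rdeg_lt_of_specializes (f : X ⟶ S) [LocallyOfFiniteType f] {x y : X} (h : x ⤳ y) (hne : x ≠ y)
    (hf : f y = f x) : rdeg f y < rdeg f x := by
  haveI : LocallyOfFiniteType (f.fiberToSpecResidueField (f x)) :=
    inferInstanceAs (LocallyOfFiniteType (pullback.snd f (S.fromSpecResidueField (f x))))
  obtain ⟨z, hz⟩ : y ∈ Set.range (f.fiberι (f x)) := by rw [f.range_fiberι]; exact hf
  have h1 : f.asFiber x ⤳ z := (f.fiberι (f x)).isEmbedding.isInducing.specializes_iff.1 (by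
    rw [f.fiberι_asFiber, hz]; exact h)
  have h2 := DimLib.ptDim_lt_of_specializes (k := S.residueField (f x)) (f.fiberToSpecResidueField (f x)) h1
    (fun e => hne (by rw [← hz, ← e, f.fiberι_asFiber]))
  rw [EGA43.FibDepth.ptDim_fiber, EGA43.FibDepth.ptDim_fiber, f.fiberι_asFiber, hz] at h2
  exact h2

/-- Generic points of fibres exist above every point. -/
theorem exists_fibreMax (f : X ⟶ S) (x : X) : ∃ η, η ⤳ x ∧ f η = f x ∧ FlatMor12.IsFibreMax f η := by
  obtain ⟨η, hη, hmax⟩ := DimLib.exists_maximal_specializes (f.asFiber x)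
  refine ⟨f.fiberι (f x) η, ?_, (f.range_fiberι (f x)).le ⟨η, rfl⟩, FlatMor12.fiberι_fibreMax f (f x) hmax⟩
  have := hη.map (f.fiberι (f x)).continuous
  rwa [f.fiberι_asFiber] at this

/-- Smooth of relative dimension `n`: the generic points of the fibres have transcendence degree `n`. -/
theorem rdeg_of_smoothOfRelativeDimension (f : X ⟶ S) (n : ℕ) (V : X.Opens)
    [LocallyOfFiniteType f] [SmoothOfRelativeDimension n (V.ι ≫ f)] {η : X} (hηV : η ∈ V)
    (hη : FlatMor12.IsFibreMax f η) : rdeg f η = n := by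
  let h : V.toScheme ⟶ S := V.ι ≫ f
  let v : V.toScheme := ⟨η, hηV⟩
  have hv : FlatMor12.IsFibreMax h v := fun w hw hfw =>
    V.ι.isOpenEmbedding.injective (hη (V.ι w) (hw.map V.ι.continuous) hfw)
  have e1 : rdeg h v = rdeg f η := by
    have hi : rdeg V.ι v = 0 := rdeg_eq_zero_of_etale V.ι v
    rw [show h = V.ι ≫ f from rfl, rdeg_comp V.ι f v, hi, add_zero]
    rfl
  rw [← e1]
  let s := h v
  haveI := smoothOfRelativeDimension_isStableUnderBaseChange.{u} n
  haveI : SmoothOfRelativeDimension n (h.fiberToSpecResidueField s) :=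
    MorphismProperty.pullback_snd (P := @SmoothOfRelativeDimension n) _ _ ‹_›
  let Z := h.fiber s
  let p : Z ⟶ Spec (CommRingCat.of (S.residueField s)) := h.fiberToSpecResidueField s
  haveI : LocallyOfFiniteType p := inferInstanceAs (LocallyOfFiniteType (pullback.snd h (S.fromSpecResidueField s)))
  let z : Z := h.asFiber v
  have hz := FlatMor12.fibreMax_asFiber h hv
  have key : DimLib.ptDim p z = n := by
    obtain ⟨U, hU, W, hW, hzW, e, hstd⟩ :=
      SmoothOfRelativeDimension.exists_isStandardSmoothOfRelativeDimension (n := n) (f := p) z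
    obtain rfl : U = ⊤ := by
      ext y
      simp only [TopologicalSpace.Opens.coe_top, Set.mem_univ, iff_true]
      exact Subsingleton.elim (α := PrimeSpectrum (S.residueField s)) (p z) y ▸ e hzW
    let φ : S.residueField s →+* Γ(Z, W) :=
      (p.appLE ⊤ W e).hom.comp (Scheme.ΓSpecIso (CommRingCat.of (S.residueField s))).inv.hom
    have h' : RingHom.IsStandardSmoothOfRelativeDimension n φ :=
      (RingHom.isStandardSmoothOfRelativeDimension_respectsIso (n := n)).2 _
        (Scheme.ΓSpecIso (CommRingCat.of (S.residueField s))).symm.commRingCatIsoToRingEquiv hstd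
    have hj : hW.fromSpec ≫ p = Spec.map (CommRingCat.ofHom φ) := by
      rw [← IsAffineOpen.SpecMap_appLE_fromSpec p (isAffineOpen_top _) hW e,
        IsAffineOpen.fromSpec_top, Scheme.isoSpec_Spec_inv, ← Spec.map_comp]
      rfl
    algebraize [φ]
    haveI : Algebra.IsStandardSmooth (S.residueField s) Γ(Z, W) :=
      Algebra.IsStandardSmoothOfRelativeDimension.isStandardSmooth n
    have hft : φ.FiniteType := RingHom.finiteType_algebraMap.2 inferInstance
    let P := hW.primeIdealOf ⟨z, hzW⟩
    have hmin : P.asIdeal ∈ minimalPrimes Γ(Z, W) := by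
      obtain ⟨w, hw, hwP⟩ := Ideal.exists_minimalPrimes_le (bot_le : (⊥ : Ideal Γ(Z, W)) ≤ P.asIdeal)
      haveI := hw.1.1
      let Q : Spec Γ(Z, W) := ⟨w, inferInstance⟩
      have hQP : Q ⤳ P := (PrimeSpectrum.le_iff_specializes Q P).1 hwP
      have h2 := hz (hW.fromSpec Q) (by
        have := hQP.map hW.fromSpec.continuous
        rwa [hW.fromSpec_primeIdealOf ⟨z, hzW⟩] at this)
      have h3 : P = Q := hW.fromSpec.isOpenEmbedding.injective ((hW.fromSpec_primeIdealOf ⟨z, hzW⟩).trans h2)
      exact h3 ▸ hw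
    have h4 := DimLib.ptDim_chart p φ hft hW.fromSpec hj P
    rw [BertiniLib.ringKrullDim_quotient_minimalPrime (k := S.residueField s) n P.asIdeal hmin,
      hW.fromSpec_primeIdealOf ⟨z, hzW⟩] at h4
    exact (Nat.cast_injective h4).symm
  rw [EGA43.FibDepth.ptDim_fiber, h.fiberι_asFiber] at key
  exact key

end Groth.Agent.Clifford24.Nodal
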