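import Groth.Agent.Clifford24.Nodal.Dim

/-!
# Generic points of the fibres of `uv = a`
-/

set_option autoImplicit false
set_option backward.isDefEq.respectTransparency false
set_option linter.style.haveILetI false

universe u

open CategoryTheory CategoryTheory.Limits AlgebraicGeometry

namespace Groth.Agent.Clifford24.Nodal

/-- The node algebra `C[u,v]/(uv - a)`. -/
abbrev Node (C : Type u) [CommRing C] (a : C) : Type u :=
  MvPolynomial (Fin 2) C ⧸
    Ideal.span {(MvPolynomial.X 0 * MvPolynomial.X 1 - MvPolynomial.C a : MvPolynomial (Fin 2) C)}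

/-- Its structure map. -/
noncomputable abbrev nodeMap (C : Type u) [CommRing C] (a : C) : C →+* Node C a := (Ideal.Quotient.mk _).comp MvPolynomial.C

/-- The projection of the node scheme. -/
noncomputable abbrev nodeProj (C : Type u) [CommRing C] (a : C) :
    Spec (CommRingCat.of (Node C a)) ⟶ Spec (CommRingCat.of C) := Spec.map (CommRingCat.ofHom (nodeMap C a))

variable {C : Type u} [CommRing C] (a : C)

noncomputable abbrev nu (i : Fin 2) : Node C a := Ideal.Quotient.mk _ (MvPolynomial.X i)

theorem nu_mul : nu a 0 * nu a 1 = nodeMap C a a := by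
  rw [← map_mul, RingHom.comp_apply]
  exact Ideal.Quotient.eq.2 (Ideal.subset_span rfl)

theorem nu_mul_of_ne {i j : Fin 2} (h : i ≠ j) : nu a i * nu a j = nodeMap C a a := by
  fin_cases i <;> fin_cases j
  · exact absurd rfl h
  · exact nu_mul a
  · exact (mul_comm _ _).trans (nu_mul a)
  · exact absurd rfl h

/-- Up to a power of `u`, every element is a polynomial in `u`. -/
theorem exists_pow_mul {i j : Fin 2} (hij : i ≠ j) (b : Node C a) :
    ∃ (n : ℕ) (p : Polynomial C), nu a i ^ n * b = p.eval₂ (nodeMap C a) (nu a i) := by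
  obtain ⟨q, rfl⟩ := Ideal.Quotient.mk_surjective b
  induction q using MvPolynomial.induction_on with
  | C r => exact ⟨0, Polynomial.C r, by simp⟩
  | add q q' hq hq' =>
    obtain ⟨n, p, hp⟩ := hq
    obtain ⟨n', p', hp'⟩ := hq'
    refine ⟨n + n', Polynomial.X ^ n' * p + Polynomial.X ^ n * p', ?_⟩
    rw [map_add, Polynomial.eval₂_add, Polynomial.eval₂_mul, Polynomial.eval₂_mul, Polynomial.eval₂_X_pow,
      Polynomial.eval₂_X_pow, ← hp, ← hp', pow_add]
    ring
  | mul_X q l hq =>
    obtain ⟨n, p, hp⟩ := hq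
    by_cases hl : l = i
    · subst hl
      refine ⟨n, p * Polynomial.X, ?_⟩
      rw [map_mul, ← mul_assoc, hp, Polynomial.eval₂_mul, Polynomial.eval₂_X]
    · obtain rfl : l = j := by
        fin_cases l <;> fin_cases i <;> fin_cases j <;> simp_all
      refine ⟨n + 1, p * Polynomial.C a, ?_⟩
      rw [map_mul, Polynomial.eval₂_mul, Polynomial.eval₂_C, ← nu_mul_of_ne a hij, ← hp, pow_succ]
      ring

/-- Where both coordinates vanish there is a generalisation in the same fibre. -/
theorem exists_nu_notMem {w : Spec (CommRingCat.of (Node C a))}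
    (hw : FlatMor12.IsFibreMax (nodeProj C a) w) : ∃ i, nu a i ∉ w.asIdeal := by
  by_contra h
  push Not at h
  have hwp : w.asIdeal.IsPrime := w.isPrime
  let P : Ideal C := w.asIdeal.comap (nodeMap C a)
  haveI : P.IsPrime := Ideal.comap_isPrime _ _
  have haP : Ideal.Quotient.mk P a = 0 := Ideal.Quotient.eq_zero_iff_mem.2 (by
    show nodeMap C a a ∈ w.asIdeal
    rw [← nu_mul]; exact Ideal.mul_mem_right _ _ (h 0))
  let ev : MvPolynomial (Fin 2) C →+* Polynomial (C ⧸ P) :=
    MvPolynomial.eval₂Hom (Polynomial.C.comp (Ideal.Quotient.mk P)) ![Polynomial.X, 0]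
  let ψ : Node C a →+* Polynomial (C ⧸ P) := Ideal.Quotient.lift _ ev (fun x hx => by
    obtain ⟨r, rfl⟩ := Ideal.mem_span_singleton'.1 hx
    simp [ev, haP])
  let w' : Spec (CommRingCat.of (Node C a)) := ⟨RingHom.ker ψ, RingHom.ker_isPrime ψ⟩
  have hψC : ∀ c, ψ (nodeMap C a c) = Polynomial.C (Ideal.Quotient.mk P c) := fun c => by
    simp [ψ, ev]
  have hle : w'.asIdeal ≤ w.asIdeal := by
    intro b hb
    obtain ⟨b, rfl⟩ := Ideal.Quotient.mk_surjective b
    have key : ∃ c, Ideal.Quotient.mk _ b - nodeMap C a c ∈ w.asIdeal ∧ (ψ (Ideal.Quotient.mk _ b)).coeff 0 = Ideal.Quotient.mk P c := by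
      clear hb
      induction b using MvPolynomial.induction_on with
      | C r =>
        refine ⟨r, ?_, ?_⟩
        · rw [show nodeMap C a r = Ideal.Quotient.mk _ (MvPolynomial.C r) from rfl, sub_self]; exact zero_mem _
        · rw [show Ideal.Quotient.mk _ (MvPolynomial.C r) = nodeMap C a r from rfl, hψC, Polynomial.coeff_C_zero]
      | add q q' hq hq' =>
        obtain ⟨c, hc, hc0⟩ := hq
        obtain ⟨c', hc', hc0'⟩ := hq'
        refine ⟨c + c', ?_, ?_⟩
        · rw [map_add, map_add, add_sub_add_comm]; exact add_mem hc hc'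
        · rw [map_add, map_add, Polynomial.coeff_add, hc0, hc0', map_add]
      | mul_X q l hq =>
        refine ⟨0, ?_, ?_⟩
        · rw [map_zero, sub_zero, map_mul]; exact Ideal.mul_mem_left _ _ (h l)
        · rw [map_mul, map_mul, map_zero, show ψ (Ideal.Quotient.mk _ (MvPolynomial.X l)) =
            ev (MvPolynomial.X l) from Ideal.Quotient.lift_mk _ _ _]
          fin_cases l <;> simp [ev]
    obtain ⟨c, hc, hc0⟩ := key
    rw [RingHom.mem_ker.1 hb, Polynomial.coeff_zero] at hc0
    have : nodeMap C a c ∈ w.asIdeal := (Ideal.Quotient.eq_zero_iff_mem.1 hc0.symm : c ∈ P)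
    simpa using add_mem hc this
  have hsame : nodeProj C a w' = nodeProj C a w := by
    refine PrimeSpectrum.ext (Ideal.ext fun c => ?_)
    show nodeMap C a c ∈ RingHom.ker ψ ↔ c ∈ P
    rw [RingHom.mem_ker, hψC, Polynomial.C_eq_zero, Ideal.Quotient.eq_zero_iff_mem]
  have e := hw w' ((PrimeSpectrum.le_iff_specializes w' w).1 hle) hsame
  have h0 : ψ (nu a 0) = 0 := by
    have h1 := h 0
    rw [e] at h1
    exact h1
  rw [show ψ (nu a 0) = Polynomial.X by simp [ψ, ev, nu]] at h0
  exact Polynomial.X_ne_zero h0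

theorem trdeg_ratFunc (K : Type u) [Field K] : Algebra.trdeg K (RatFunc K) = 1 := by
  haveI : FaithfulSMul (Polynomial K) (RatFunc K) :=
    (faithfulSMul_iff_algebraMap_injective _ _).2 (IsFractionRing.injective (Polynomial K) (RatFunc K))
  haveI : Algebra.IsAlgebraic (Polynomial K) (RatFunc K) := IsLocalization.isAlgebraic _ (nonZeroDivisors (Polynomial K))
  have h := trdeg_add_eq K (Polynomial K) (A := RatFunc K)
  rw [trdeg_eq_zero (R := Polynomial K), add_zero, Polynomial.trdeg_of_isDomain] at h
  exact h.symm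

/-- The generic points of the fibres of `uv = a` have transcendence degree one. -/
theorem rdeg_node {w : Spec (CommRingCat.of (Node C a))} (hw : FlatMor12.IsFibreMax (nodeProj C a) w) :
    rdeg (nodeProj C a) w = 1 := by
  have hwp : w.asIdeal.IsPrime := w.isPrime
  obtain ⟨i, hi⟩ := exists_nu_notMem a hw
  obtain ⟨j, hij⟩ := exists_ne i
  let P : Ideal C := (nodeProj C a w).asIdeal
  haveI : P.IsPrime := (nodeProj C a w).isPrime
  let K := P.ResidueField
  let T : RatFunc K := RatFunc.X
  have hT : T ≠ 0 := RatFunc.X_ne_zero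
  let ι : C →+* RatFunc K := (algebraMap K (RatFunc K)).comp (algebraMap C K)
  let ev : MvPolynomial (Fin 2) C →+* RatFunc K :=
    MvPolynomial.eval₂Hom ι (fun l => if l = i then T else ι a * T⁻¹)
  have hev : ev (MvPolynomial.X 0 * MvPolynomial.X 1 - MvPolynomial.C a) = 0 := by
    have key : ∀ l m : Fin 2, l = i → m ≠ i →
        ev (MvPolynomial.X l) * ev (MvPolynomial.X m) = ι a := fun l m hl hm => by
      simp only [ev, MvPolynomial.eval₂Hom_X', if_pos hl, if_neg hm]
      rw [mul_comm, mul_assoc, inv_mul_cancel₀ hT, mul_one]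
    rw [map_sub, map_mul, show ev (MvPolynomial.C a) = ι a from MvPolynomial.eval₂Hom_C _ _ _, sub_eq_zero]
    rcases (by omega : i.val = 0 ∨ i.val = 1) with h | h
    · obtain rfl : i = 0 := Fin.ext h
      exact key 0 1 rfl Fin.zero_ne_one.symm
    · obtain rfl : i = 1 := Fin.ext h
      exact (mul_comm _ _).trans (key 1 0 rfl Fin.zero_ne_one)
  let ψ : Node C a →+* RatFunc K := Ideal.Quotient.lift _ ev (fun x hx => by
    obtain ⟨r, rfl⟩ := Ideal.mem_span_singleton'.1 hx
    rw [map_mul, hev, mul_zero])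
  have hψC : ∀ c, ψ (nodeMap C a c) = ι c := fun c => by simp [ψ, ev]
  have hψT : ψ (nu a i) = T := by simp [ψ, ev, nu]
  let w' : Spec (CommRingCat.of (Node C a)) := ⟨RingHom.ker ψ, RingHom.ker_isPrime ψ⟩
  have hιP : ∀ c, ι c = 0 ↔ c ∈ P := fun c => by
    show algebraMap K (RatFunc K) (algebraMap C K c) = 0 ↔ _
    rw [map_eq_zero, Ideal.algebraMap_residueField_eq_zero]
  have hle : w'.asIdeal ≤ w.asIdeal := by
    intro b hb
    obtain ⟨n, p, hp⟩ := exists_pow_mul a hij.symm b
    have h0 : (p.map (algebraMap C K)) = 0 := by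
      have h1 : p.eval₂ ι T = 0 := by
        rw [← hψT, show ι = ψ.comp (nodeMap C a) from RingHom.ext fun c => (hψC c).symm,
          ← Polynomial.hom_eval₂, ← hp, map_mul, RingHom.mem_ker.1 hb, mul_zero]
      rw [show p.eval₂ ι T = algebraMap (Polynomial K) (RatFunc K) (p.map (algebraMap C K)) from ?_] at h1
      · exact (map_eq_zero_iff _ (IsFractionRing.injective (Polynomial K) (RatFunc K))).1 h1
      · have : algebraMap (Polynomial K) (RatFunc K) (p.map (algebraMap C K)) =
            Polynomial.eval₂ (algebraMap K (RatFunc K)) T (p.map (algebraMap C K)) := by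
          rw [← Polynomial.aeval_def]
          show _ = Polynomial.aeval T (p.map (algebraMap C K))
          rw [show T = algebraMap (Polynomial K) (RatFunc K) Polynomial.X from RatFunc.algebraMap_X.symm,
            Polynomial.aeval_algebraMap_apply, Polynomial.aeval_X_left_apply]
        rw [this, Polynomial.eval₂_map]
    have hcoef : ∀ m, p.coeff m ∈ P := fun m => Ideal.algebraMap_residueField_eq_zero.1 (by
      rw [← Polynomial.coeff_map, h0, Polynomial.coeff_zero])
    have h2 : nu a i ^ n * b ∈ w.asIdeal := by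
      rw [hp, Polynomial.eval₂_eq_sum_range]
      exact Ideal.sum_mem _ fun m _ => Ideal.mul_mem_right _ _ (hcoef m)
    exact (hwp.mem_or_mem h2).resolve_left fun h3 => hi (hwp.mem_of_pow_mem n h3)
  have hsame : nodeProj C a w' = nodeProj C a w := by
    refine PrimeSpectrum.ext (Ideal.ext fun c => ?_)
    show nodeMap C a c ∈ RingHom.ker ψ ↔ c ∈ P
    rw [RingHom.mem_ker, hψC, hιP]
  have e := hw w' ((PrimeSpectrum.le_iff_specializes w' w).1 hle) hsame
  have hker : ∀ b, b ∈ w.asIdeal ↔ ψ b = 0 := fun b => by rw [e]; exact RingHom.mem_ker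
  let W := CommRingCat.of (Node C a)
  let σ : w.asIdeal.ResidueField →+* RatFunc K := Ideal.ResidueField.lift w.asIdeal ψ
    (fun b hb => (hker b).1 hb) (fun b hb => isUnit_iff_ne_zero.2 fun h => hb ((hker b).2 h))
  have hσ : ∀ b, σ (algebraMap _ _ b) = ψ b := Ideal.ResidueField.lift_algebraMap _ _ _ _
  let em : K →+* w.asIdeal.ResidueField := Ideal.ResidueField.map P w.asIdeal (nodeMap C a) rfl
  have hem : σ.comp em = algebraMap K (RatFunc K) := Ideal.ResidueField.ringHom_ext (RingHom.ext fun c => by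
    show σ (em (algebraMap C K c)) = ι c
    rw [Ideal.ResidueField.map_algebraMap, hσ, hψC])
  have hσs : Function.Surjective σ := by
    intro z
    have hpoly : ∀ q : Polynomial K, algebraMap (Polynomial K) (RatFunc K) q ∈ σ.fieldRange := by
      intro q
      induction q using Polynomial.induction_on' with
      | add q q' hq hq' => rw [map_add]; exact add_mem hq hq'
      | monomial m r =>
        rw [← Polynomial.C_mul_X_pow_eq_monomial, map_mul, map_pow, RatFunc.algebraMap_X, RatFunc.algebraMap_C]
        refine mul_mem (RingHom.mem_fieldRange.2 ⟨em r, ?_⟩)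
          (pow_mem (RingHom.mem_fieldRange.2 ⟨algebraMap _ _ (nu a i), (hσ _).trans hψT⟩) m)
        exact (RingHom.congr_fun hem r).trans (RatFunc.algebraMap_eq_C (K := K) ▸ rfl)
    obtain ⟨q, r, -, rfl⟩ := IsFractionRing.div_surjective (Polynomial K) z
    exact div_mem (hpoly q) (hpoly r)
  let σe : w.asIdeal.ResidueField ≃+* RatFunc K := RingEquiv.ofBijective σ ⟨σ.injective, hσs⟩
  have h1 : DimLib.trdegHom em = 1 := by
    rw [← DimLib.trdegHom_comp_ringEquiv em σe, show (σe : _ →+* _).comp em = algebraMap K (RatFunc K) from hem,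
      DimLib.trdegHom_algebraMap, trdeg_ratFunc, map_one]
  rw [← h1]
  unfold rdeg
  let q := nodeProj C a
  let e1 := (Scheme.Spec.residueFieldIso (CommRingCat.of C) (q w)).commRingCatIsoToRingEquiv
  let e2 := (Scheme.Spec.residueFieldIso W w).commRingCatIsoToRingEquiv
  have hsq : q.residueFieldMap w = (Scheme.Spec.residueFieldIso (CommRingCat.of C) (q w)).hom ≫
      CommRingCat.ofHom em ≫ (Scheme.Spec.residueFieldIso W w).inv := by
    have halg : CommRingCat.ofHom (algebraMap C K) ≫ CommRingCat.ofHom em =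
        CommRingCat.ofHom (nodeMap C a) ≫ CommRingCat.ofHom (algebraMap W w.asIdeal.ResidueField) :=
      CommRingCat.hom_ext (RingHom.ext fun c => Ideal.ResidueField.map_algebraMap P w.asIdeal _ rfl c)
    apply Spec.map_injective
    rw [← cancel_mono ((Spec (CommRingCat.of C)).fromSpecResidueField (q w)),
      Scheme.Hom.SpecMap_residueFieldMap_fromSpecResidueField,
      ← Scheme.Spec.map_residueFieldIso_inv_eq_fromSpecResidueField,
      ← Scheme.Spec.map_residueFieldIso_inv_eq_fromSpecResidueField]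
    simp only [q, nodeProj, ← Spec.map_comp, Category.assoc, Iso.inv_hom_id_assoc]
    exact congrArg Spec.map (congrArg (· ≫ (Scheme.Spec.residueFieldIso W w).inv) halg.symm)
  have hq : (q.residueFieldMap w).hom = (e2.symm : _ →+* _).comp (em.comp (e1 : _ →+* _)) :=
    congrArg CommRingCat.Hom.hom hsq
  rw [hq, DimLib.trdegHom_comp_ringEquiv]
  exact EGA43.FibDepth.trdegHom_ringEquiv_comp e1 em

end Groth.Agent.Clifford24.Nodal
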